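import Mathlib
import Groth.Agent.Lib.BezoutAff.Pieces
import Groth.Agent.Lib.SqfreeForm.Basic

/-!
# Counting singular points of a reduced plane curve

For coprime forms `F`, `G` in three variables, of degrees `n` and `m`, the points at which both
vanish and `F` is singular number at most `n * m / 2`: each of them gives two independent
functionals on the graded piece of the quotient by `(F, G)`.
-/

set_option autoImplicit false
universe u

open MvPolynomial

namespace GrothLib.SingCount1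

open GrothLib.SqfreeForm GrothLib.BezoutAff

variable {k : Type u} [Field k]

theorem dirD_mul {σ : Type} [Fintype σ] (v : σ → k) (a b : MvPolynomial σ k) :
    dirD v (a * b) = dirD v a * b + a * dirD v b := by
  simp only [dirD_apply, Finset.sum_mul, Finset.mul_sum, ← Finset.sum_add_distrib, pderiv_mul,
    smul_eq_C_mul]
  exact Finset.sum_congr rfl fun i _ => by ring

/-- The linear form with the given coefficients. -/
noncomputable def lf (a : Fin 3 → k) : MvPolynomial (Fin 3) k := ∑ i, C (a i) * X i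

theorem lf_hom (a : Fin 3 → k) : (lf a).IsHomogeneous 1 :=
  IsHomogeneous.sum _ _ _ fun i _ => (isHomogeneous_X k i).C_mul _

theorem eval_lf (a x : Fin 3 → k) : eval x (lf a) = ∑ i, a i * x i := by
  simp [lf]

theorem eval_dirD_lf (a v x : Fin 3 → k) : eval x (dirD v (lf a)) = ∑ i, a i * v i := by
  simp [lf, dirD_apply, Fin.sum_univ_three, pderiv_X, Pi.single_apply, mul_comm]

theorem exists_coeff {x y : Fin 3 → k} (hy : y ≠ 0) (hx : ∀ r : k, x ≠ r • y) :
    ∃ a : Fin 3 → k, ∑ i, a i * x i = 1 ∧ ∑ i, a i * y i = 0 := by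
  obtain ⟨i, hi⟩ := Function.ne_iff.1 hy
  obtain ⟨j, hj⟩ := Function.ne_iff.1 (hx (x i / y i))
  have hi' : y i ≠ 0 := hi
  have hd : x j * y i - x i * y j ≠ 0 := by
    intro h
    apply hj
    rw [Pi.smul_apply, smul_eq_mul, div_mul_eq_mul_div, eq_div_iff hi']
    exact sub_eq_zero.1 h
  refine ⟨Pi.single i (-(y j) / (x j * y i - x i * y j)) + Pi.single j (y i / (x j * y i - x i * y j)), ?_, ?_⟩
  · simp only [Pi.add_apply, add_mul, Finset.sum_add_distrib, Pi.single_apply, ite_mul, zero_mul,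
      Finset.sum_ite_eq', Finset.mem_univ, if_true]
    rw [div_mul_eq_mul_div, div_mul_eq_mul_div, ← add_div, div_eq_one_iff_eq hd]
    ring
  · simp only [Pi.add_apply, add_mul, Finset.sum_add_distrib, Pi.single_apply, ite_mul, zero_mul,
      Finset.sum_ite_eq', Finset.mem_univ, if_true]
    rw [div_mul_eq_mul_div, div_mul_eq_mul_div, ← add_div, div_eq_zero_iff]
    left
    ring

theorem exists_dir {x : Fin 3 → k} (hx : x ≠ 0) (G : MvPolynomial (Fin 3) k) :
    ∃ v : Fin 3 → k, eval x (dirD v G) = 0 ∧ ∀ r : k, v ≠ r • x := by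
  let φ : (Fin 3 → k) →ₗ[k] k :=
    ∑ i, eval x (pderiv i G) • (LinearMap.proj i : (Fin 3 → k) →ₗ[k] k)
  have hφ : ∀ v, φ v = eval x (dirD v G) := fun v => by
    simp [φ, dirD_apply, mul_comm]
  have h : ¬ LinearMap.ker φ ≤ k ∙ x := fun h => by
    have h1 := Submodule.finrank_mono h
    rw [finrank_span_singleton hx] at h1
    have h2 := φ.finrank_range_add_finrank_ker
    have h3 := Submodule.finrank_le (LinearMap.range φ)
    rw [Module.finrank_self] at h3
    rw [Module.finrank_fin_fun] at h2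
    omega
  obtain ⟨v, hv, hv'⟩ := SetLike.not_le_iff_exists.1 h
  exact ⟨v, by rw [← hφ]; exact hv, fun r hr => hv' (Submodule.mem_span_singleton.2 ⟨r, hr.symm⟩)⟩

open scoped Classical in
theorem two_mul_card_le {n m : ℕ} {F G : MvPolynomial (Fin 3) k} (hF : F.IsHomogeneous n)
    (hG : G.IsHomogeneous m) (hG0 : G ≠ 0) (hFG : IsRelPrime F G)
    (s : Finset (Projectivization k (Fin 3 → k)))
    (hs : ∀ p ∈ s, eval p.rep F = 0 ∧ (∀ i, eval p.rep (pderiv i F) = 0) ∧ eval p.rep G = 0) :
    2 * s.card ≤ n * m := by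
  choose v hv hv' using fun p : Projectivization k (Fin 3 → k) => exists_dir p.rep_nonzero G
  set D := n + m + 2 * s.card + 1 with hD
  let Φ : Forms k D →ₗ[k] (s → k × k) :=
    LinearMap.pi fun p => LinearMap.prod
      ((aeval (R := k) p.1.rep).toLinearMap.comp (Forms k D).subtype)
      (((aeval (R := k) p.1.rep).toLinearMap.comp (dirD (v p.1))).comp (Forms k D).subtype)
  have hΦ : ∀ (h : Forms k D) (p : s), Φ h p = (eval p.1.rep h.1, eval p.1.rep (dirD (v p.1) h.1)) :=
    fun h p => rfl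
  set K := Submodule.comap (Forms k D).subtype
    ((Ideal.span ({F, G} : Set (MvPolynomial (Fin 3) k))).restrictScalars k)
  have hK : K ≤ LinearMap.ker Φ := by
    intro h hh
    obtain ⟨A, B, hAB⟩ := Ideal.mem_span_pair.1 hh
    rw [LinearMap.mem_ker]
    funext p
    obtain ⟨h1, h2, h3⟩ := hs p.1 p.2
    have h4 : eval p.1.rep (dirD (v p.1) F) = 0 := by simp [dirD_apply, h2]
    rw [hΦ, Pi.zero_apply, show (h.1 : MvPolynomial (Fin 3) k) = A * F + B * G from hAB.symm,
      map_add, map_add, dirD_mul, dirD_mul]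
    simp [h1, h3, h4, hv]
  have hsurj : Function.Surjective Φ := by
    rw [← LinearMap.range_eq_top, eq_top_iff]
    intro y _
    rw [show y = ∑ p, (Pi.single p (y p) : s → k × k) from (Finset.univ_sum_single y).symm]
    refine Submodule.sum_mem _ fun p _ => ?_
    have hsep : ∀ q : s, q ≠ p → ∀ r : k, p.1.rep ≠ r • q.1.rep := fun q hq r hr => hq <| by
      refine Subtype.ext ?_
      rw [← q.1.mk_rep, ← p.1.mk_rep, eq_comm, Projectivization.mk_eq_mk_iff']
      exact ⟨r, hr.symm⟩
    have hcoef : ∀ q : s, ∃ a : Fin 3 → k, ∑ i, a i * p.1.rep i = 1 ∧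
        (q ≠ p → ∑ i, a i * q.1.rep i = 0) := fun q => by
      by_cases hq : q = p
      · obtain ⟨a, ha, -⟩ := exists_coeff (x := p.1.rep) (y := v p.1)
          (fun h0 => hv' p.1 0 (by rw [h0, zero_smul]))
          (fun r hr => by
            rcases eq_or_ne r 0 with rfl | hr0
            · exact p.1.rep_nonzero (by rw [hr, zero_smul])
            · exact hv' p.1 r⁻¹ (by rw [hr, inv_smul_smul₀ hr0]))
        exact ⟨a, ha, fun h => absurd hq h⟩
      · obtain ⟨a, ha, hb⟩ := exists_coeff q.1.rep_nonzero (hsep q hq)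
        exact ⟨a, ha, fun _ => hb⟩
    choose a ha hb using hcoef
    obtain ⟨b, hb1, hb0⟩ := exists_coeff (x := v p.1) p.1.rep_nonzero (hv' p.1)
    set u := ∏ q ∈ Finset.univ.erase p, lf (a q) ^ 2 with hu
    have hu1 : eval p.1.rep u = 1 := by
      rw [hu, map_prod]
      exact Finset.prod_eq_one fun q _ => by rw [map_pow, eval_lf, ha, one_pow]
    have huhom : u.IsHomogeneous (2 * (s.card - 1)) := by
      have h0 : u.IsHomogeneous (∑ q ∈ Finset.univ.erase p, 1 * 2) :=
        IsHomogeneous.prod _ _ _ fun q _ => (lf_hom _).pow 2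
      rwa [Finset.sum_const, Finset.card_erase_of_mem (Finset.mem_univ _), Finset.card_univ,
        Fintype.card_coe, smul_eq_mul, one_mul, mul_comm] at h0
    have hdeg : 2 * (s.card - 1) + (n + m + 3) = D := by
      rw [hD]
      have : 1 ≤ s.card := Finset.card_pos.2 ⟨p.1, p.2⟩
      omega
    have hoff : ∀ (w : MvPolynomial (Fin 3) k) (q : s), q ≠ p →
        eval q.1.rep (u * w) = 0 ∧ eval q.1.rep (dirD (v q.1) (u * w)) = 0 := by
      intro w q hq
      obtain ⟨w', hw'⟩ : lf (a q) ^ 2 ∣ u * w :=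
        Dvd.dvd.mul_right (Finset.dvd_prod_of_mem _ (Finset.mem_erase.2 ⟨hq, Finset.mem_univ _⟩)) _
      have h0 : eval q.1.rep (lf (a q)) = 0 := by rw [eval_lf]; exact hb q hq
      rw [hw', dirD_mul, sq, dirD_mul]
      simp [h0]
    obtain ⟨wa, hwa⟩ : ∃ wa, wa = u * lf (a p) ^ (n + m + 3) := ⟨_, rfl⟩
    obtain ⟨wb, hwb⟩ : ∃ wb, wb = u * lf (a p) ^ (n + m + 2) * lf b := ⟨_, rfl⟩
    have hwa' : wa ∈ Forms k D := by
      rw [hwa, mem_homogeneousSubmodule]
      have := huhom.mul ((lf_hom (a p)).pow (n + m + 3))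
      rwa [one_mul, hdeg] at this
    have hwb' : wb ∈ Forms k D := by
      rw [hwb, mem_homogeneousSubmodule]
      have := (huhom.mul ((lf_hom (a p)).pow (n + m + 2))).mul (lf_hom b)
      rwa [show 2 * (s.card - 1) + 1 * (n + m + 2) + 1 = D by omega] at this
    have ea : eval p.1.rep wa = 1 := by
      rw [hwa, map_mul, map_pow, hu1, eval_lf, ha, one_pow, one_mul]
    have eb : eval p.1.rep wb = 0 := by
      rw [hwb, map_mul, eval_lf, hb0, mul_zero]
    have eb' : eval p.1.rep (dirD (v p.1) wb) = 1 := by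
      rw [hwb, dirD_mul, map_add]
      simp [eval_lf, eval_dirD_lf, ha, hb0, hb1, hu1]
    refine ⟨(y p).1 • ⟨wa, hwa'⟩ + ((y p).2 - (y p).1 * eval p.1.rep (dirD (v p.1) wa)) • ⟨wb, hwb'⟩, ?_⟩
    funext q
    rw [map_add, map_smul, map_smul, Pi.add_apply, Pi.smul_apply, Pi.smul_apply, hΦ, hΦ]
    rcases eq_or_ne q p with rfl | hq
    · rw [Pi.single_eq_same, ea, eb, eb']
      ext <;> simp
    · obtain ⟨a1, a2⟩ := hoff (lf (a p) ^ (n + m + 3)) q hq
      obtain ⟨b1, b2⟩ := hoff (lf (a p) ^ (n + m + 2) * lf b) q hq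
      rw [Pi.single_eq_of_ne hq]
      simp only [hwa, hwb, mul_assoc] at *
      rw [a1, a2, b1, b2]
      simp
  have h1 : Module.finrank k (s → k × k) ≤ Module.finrank k (↥(Forms k D) ⧸ K) :=
    LinearMap.finrank_le_finrank_of_surjective (f := K.liftQ Φ hK) fun y => by
      obtain ⟨h, hh⟩ := hsurj y
      exact ⟨Submodule.Quotient.mk h, hh⟩
  rw [finrank_piece_quotient F G hF hG hG0 hFG (show n + m ≤ D by omega)] at h1
  rw [Module.finrank_pi_fintype] at h1
  simpa [Module.finrank_prod, mul_comm] using h1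

/-- A general directional derivative of a squarefree form is coprime to it. -/
theorem exists_isRelPrime_dirD [IsAlgClosed k] {F : MvPolynomial (Fin 3) k} (hsq : Squarefree F) :
    ∃ c : Fin 3 → k, IsRelPrime F (dirD c F) := by
  classical
  have hF0 : F ≠ 0 := hsq.ne_zero
  let s := (UniqueFactorizationMonoid.factors F).toFinset
  let K : s → Submodule k (Fin 3 → k) := fun P =>
    Submodule.comap (∑ i, (LinearMap.proj i : (Fin 3 → k) →ₗ[k] k).smulRight (pderiv i F))
      (LinearMap.range (LinearMap.mulLeft k P.1))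
  have hK : ∀ P, K P ≠ ⊤ := by
    rintro ⟨P, hP⟩ htop
    rw [Multiset.mem_toFinset] at hP
    have hprime := UniqueFactorizationMonoid.prime_of_factor P hP
    obtain ⟨Q, hQ⟩ := UniqueFactorizationMonoid.dvd_of_mem_factors hP
    obtain ⟨i, hi⟩ := exists_pderiv_ne_zero hprime
    have hmem : (Pi.single i 1 : Fin 3 → k) ∈ K ⟨P, Multiset.mem_toFinset.2 hP⟩ := htop ▸ Submodule.mem_top
    obtain ⟨R, hR⟩ := hmem
    have hR' : P * R = pderiv i F := by
      refine hR.trans ?_
      simp [Pi.single_apply]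
    rw [hQ, pderiv_mul] at hR'
    have h1 : P ∣ pderiv i P * Q := ⟨R - pderiv i Q, by linear_combination -hR'⟩
    rcases hprime.dvd_or_dvd h1 with h | h
    · exact not_dvd_pderiv_of_ne_zero hi h
    · exact hprime.not_unit (hsq P (hQ ▸ mul_dvd_mul_left P h))
  obtain ⟨c, hc⟩ := Submodule.exists_forall_notMem_of_forall_ne_top K hK
  refine ⟨c, ?_⟩
  rw [UniqueFactorizationMonoid.isRelPrime_iff_no_prime_factors hF0]
  intro P hPF hPG hP
  obtain ⟨q, hq, hqP⟩ := UniqueFactorizationMonoid.exists_mem_factors_of_dvd hF0 hP.irreducible hPF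
  refine hc ⟨q, Multiset.mem_toFinset.2 hq⟩ ?_
  obtain ⟨R, hR⟩ := hqP.symm.dvd.trans hPG
  refine ⟨R, ?_⟩
  show q * R = _
  rw [← hR, dirD_apply]
  simp

theorem singular_card_le [IsAlgClosed k] {F : MvPolynomial (Fin 3) k} {d : ℕ} (hF : F.IsHomogeneous d)
    (hd : 1 ≤ d) (hsq : Squarefree F) :
    ∃ s : Finset (Projectivization k (Fin 3 → k)), 2 * s.card ≤ d * (d - 1) ∧
      ∀ p : Projectivization k (Fin 3 → k), eval p.rep F = 0 →
        (∀ i, eval p.rep (pderiv i F) = 0) → p ∈ s := by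
  classical
  obtain ⟨c, hc⟩ := exists_isRelPrime_dirD hsq
  have hG : (dirD c F).IsHomogeneous (d - 1) := by
    rw [dirD_apply]
    exact IsHomogeneous.sum _ _ _ fun i _ => by
      rw [smul_eq_C_mul]; exact (IsHomogeneous.pderiv hF).C_mul _
  have hG0 : dirD c F ≠ 0 := fun h => by
    rw [h, isRelPrime_zero_right] at hc
    have := hF.totalDegree hsq.ne_zero
    obtain ⟨r, hr, hr'⟩ := MvPolynomial.isUnit_iff_eq_C_of_isReduced.1 hc
    rw [hr', totalDegree_C] at this
    omega
  let S : Set (Projectivization k (Fin 3 → k)) :=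
    {p | eval p.rep F = 0 ∧ ∀ i, eval p.rep (pderiv i F) = 0}
  have key : ∀ t : Finset (Projectivization k (Fin 3 → k)), ↑t ⊆ S → 2 * t.card ≤ d * (d - 1) :=
    fun t ht => two_mul_card_le hF hG hG0 hc t fun p hp =>
      ⟨(ht hp).1, (ht hp).2, by simp [dirD_apply, (ht hp).2]⟩
  have hfin : S.Finite := by
    by_contra hinf
    obtain ⟨t, ht, htc⟩ := Set.Infinite.exists_subset_card_eq hinf (d * (d - 1) + 1)
    have := key t ht
    omega
  exact ⟨hfin.toFinset, key _ (by rw [Set.Finite.coe_toFinset]), fun p h1 h2 => by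
    rw [Set.Finite.mem_toFinset]; exact ⟨h1, h2⟩⟩

end GrothLib.SingCount1
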